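import Groth.Agent.ResProp.EF.K567.WGpd
import Groth.Agent.ResProp.EF.K884.MatPt
import Mathlib.Algebra.BigOperators.Fin

/-!
# The block part of the producer (second seat of SymOf)

From the generators `u₁` of `gr 1` and `u₂` of `gr 2` with their matrices `M₁`, `M₂` to the weighted family
`Fin.append u₁ u₂` with the block diagonal matrix: `blk`, `wtb`, `hg_of_span`, `wcond_blk`, `wpres_blk`, `isMC_blk`,
`matPt_blk`, the arrow `whom`, and `exists_block`.
-/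

set_option autoImplicit false
set_option linter.unusedSectionVars false
set_option linter.dupNamespace false

universe u

open CategoryTheory Opposite TensorProduct MvPolynomial

namespace Groth.Agent.ResProp.EF.K588.Block

open Groth.Agent.ResProp.EF.K980 Groth.Agent.ResProp.EF.K863 Groth.Agent.ResProp.EF.K964 Groth.Agent.ResProp.EF.K567

/-! ### Block diagonal matrices over `Fin (r₁ + r₂)` -/

section blk

variable {r₁ r₂ : ℕ} {S : Type*} [CommRing S] {S' : Type*} [CommRing S']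

/-- the block diagonal matrix -/
def blk (M₁ : Matrix (Fin r₁) (Fin r₁) S) (M₂ : Matrix (Fin r₂) (Fin r₂) S) :
    Matrix (Fin (r₁ + r₂)) (Fin (r₁ + r₂)) S := fun i j =>
  Fin.addCases (motive := fun _ => S) (fun i₁ => Fin.addCases (motive := fun _ => S) (fun j₁ => M₁ i₁ j₁) (fun _ => 0) j)
    (fun i₂ => Fin.addCases (motive := fun _ => S) (fun _ => 0) (fun j₂ => M₂ i₂ j₂) j) i

variable (M₁ N₁ : Matrix (Fin r₁) (Fin r₁) S) (M₂ N₂ : Matrix (Fin r₂) (Fin r₂) S)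

@[simp] theorem blk_ll (i j : Fin r₁) : blk M₁ M₂ (Fin.castAdd r₂ i) (Fin.castAdd r₂ j) = M₁ i j := by
  simp [blk]

@[simp] theorem blk_lr (i : Fin r₁) (j : Fin r₂) : blk M₁ M₂ (Fin.castAdd r₂ i) (Fin.natAdd r₁ j) = 0 := by
  simp [blk]

@[simp] theorem blk_rl (i : Fin r₂) (j : Fin r₁) : blk M₁ M₂ (Fin.natAdd r₁ i) (Fin.castAdd r₂ j) = 0 := by
  simp [blk]

@[simp] theorem blk_rr (i j : Fin r₂) : blk M₁ M₂ (Fin.natAdd r₁ i) (Fin.natAdd r₁ j) = M₂ i j := by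
  simp [blk]

theorem mat_ext {P Q : Matrix (Fin (r₁ + r₂)) (Fin (r₁ + r₂)) S}
    (ll : ∀ i j : Fin r₁, P (Fin.castAdd r₂ i) (Fin.castAdd r₂ j) = Q (Fin.castAdd r₂ i) (Fin.castAdd r₂ j))
    (lr : ∀ (i : Fin r₁) (j : Fin r₂), P (Fin.castAdd r₂ i) (Fin.natAdd r₁ j) = Q (Fin.castAdd r₂ i) (Fin.natAdd r₁ j))
    (rl : ∀ (i : Fin r₂) (j : Fin r₁), P (Fin.natAdd r₁ i) (Fin.castAdd r₂ j) = Q (Fin.natAdd r₁ i) (Fin.castAdd r₂ j))
    (rr : ∀ i j : Fin r₂, P (Fin.natAdd r₁ i) (Fin.natAdd r₁ j) = Q (Fin.natAdd r₁ i) (Fin.natAdd r₁ j)) : P = Q := by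
  ext i j
  refine Fin.addCases (fun i => ?_) (fun i => ?_) i <;> refine Fin.addCases (fun j => ?_) (fun j => ?_) j
  · exact ll i j
  · exact lr i j
  · exact rl i j
  · exact rr i j

theorem blk_one : blk (1 : Matrix (Fin r₁) (Fin r₁) S) (1 : Matrix (Fin r₂) (Fin r₂) S) = 1 := by
  refine mat_ext (fun i j => ?_) (fun i j => ?_) (fun i j => ?_) fun i j => ?_
  · rw [blk_ll, Matrix.one_apply, Matrix.one_apply]
    simp [Fin.ext_iff]
  · rw [blk_lr, Matrix.one_apply_ne]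
    intro h
    have := congrArg Fin.val h
    simp at this
    omega
  · rw [blk_rl, Matrix.one_apply_ne]
    intro h
    have := congrArg Fin.val h
    simp at this
    omega
  · rw [blk_rr, Matrix.one_apply, Matrix.one_apply]
    simp [Fin.ext_iff]

theorem blk_mul : blk (M₁ * N₁) (M₂ * N₂) = blk M₁ M₂ * blk N₁ N₂ := by
  refine mat_ext (fun i j => ?_) (fun i j => ?_) (fun i j => ?_) fun i j => ?_ <;>
    simp [Matrix.mul_apply, Fin.sum_univ_add]

theorem blk_map (f : S →+* S') : blk (M₁.map f) (M₂.map f) = (blk M₁ M₂).map f := by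
  refine mat_ext (fun i j => ?_) (fun i j => ?_) (fun i j => ?_) fun i j => ?_ <;> simp

/-- the block diagonal matrix of units -/
def blkU (U₁ : (Matrix (Fin r₁) (Fin r₁) S)ˣ) (U₂ : (Matrix (Fin r₂) (Fin r₂) S)ˣ) :
    (Matrix (Fin (r₁ + r₂)) (Fin (r₁ + r₂)) S)ˣ where
  val := blk U₁.1 U₂.1
  inv := blk (U₁⁻¹).1 (U₂⁻¹).1
  val_inv := by rw [← blk_mul, U₁.mul_inv, U₂.mul_inv, blk_one]
  inv_val := by rw [← blk_mul, U₁.inv_mul, U₂.inv_mul, blk_one]

/-- the weights -/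
def wtb (r₁ r₂ : ℕ) : Fin (r₁ + r₂) → ℕ := Fin.append (fun _ => 1) (fun _ => 2)

@[simp] theorem wtb_l (i : Fin r₁) : wtb r₁ r₂ (Fin.castAdd r₂ i) = 1 := by simp [wtb]

@[simp] theorem wtb_r (i : Fin r₂) : wtb r₁ r₂ (Fin.natAdd r₁ i) = 2 := by simp [wtb]

theorem one_le_wtb (i : Fin (r₁ + r₂)) : 1 ≤ wtb r₁ r₂ i := by
  refine Fin.addCases (fun i => ?_) (fun i => ?_) i <;> simp

theorem wtb_le_two (i : Fin (r₁ + r₂)) : wtb r₁ r₂ i ≤ 2 := by
  refine Fin.addCases (fun i => ?_) (fun i => ?_) i <;> simp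

theorem wpres_blk : WPres (wtb r₁ r₂) (blk M₁ M₂) := by
  intro i j
  refine Fin.addCases (fun i => ?_) (fun i => ?_) i <;> refine Fin.addCases (fun j => ?_) (fun j => ?_) j <;> simp

end blk

/-! ### The elements `u` -/

section model

variable {R : Type*} [CommRing R] {D : Type*} [CommRing D] [Algebra R D] {V : Type*} [AddCommGroup V]
  [Module D V] {ρ : V →ₗ[D] Ω[D⁄R]} {m : Model R D V ρ} {r r₁ r₂ : ℕ}

/-- generators of `gr n` in terms of elements -/
theorem exists_of_span {n : ℕ} (u : Fin r → m.Fil n)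
    (h : Submodule.span D (Set.range fun l => m.toGr n (u l)) = ⊤) (x : m.PP) (hx : x ∈ m.Fil n) :
    ∃ b : Fin r → m.PP, x - ∑ j, (u j : m.PP) * b j ∈ m.Fil (n + 1) := by
  have h1 : m.toGr n ⟨x, hx⟩ ∈ Submodule.span D (Set.range fun l => m.toGr n (u l)) := by rw [h]; trivial
  obtain ⟨d, hd⟩ := (Submodule.mem_span_range_iff_exists_fun D).1 h1
  choose b hb using fun j => m.surj (d j)
  refine ⟨b, ?_⟩
  have h2 : m.toGr n (∑ j, b j • u j) = m.toGr n ⟨x, hx⟩ := by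
    rw [map_sum, ← hd]
    refine Finset.sum_congr rfl fun j _ => ?_
    rw [← m.f_smul_toGr, hb]
  have h3 := (m.toGr_eq_iff _ _).1 h2.symm
  have h4 : (((∑ j, b j • u j : m.Fil n)) : m.PP) = ∑ j, (u j : m.PP) * b j := by
    rw [Submodule.coe_sum]
    refine Finset.sum_congr rfl fun j _ => ?_
    rw [Submodule.coe_smul, smul_eq_mul, mul_comm]
  rwa [h4] at h3

theorem mem_append {u₁ : Fin r₁ → m.PP} {u₂ : Fin r₂ → m.PP} (h₁ : ∀ i, u₁ i ∈ m.Fil 1) (h₂ : ∀ i, u₂ i ∈ m.Fil 2)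
    (i : Fin (r₁ + r₂)) : Fin.append u₁ u₂ i ∈ m.Fil (wtb r₁ r₂ i) := by
  refine Fin.addCases (fun i => ?_) (fun i => ?_) i
  · simpa using h₁ i
  · simpa using h₂ i

/-- the generation of `gr 1` and `gr 2` in 454's form -/
theorem hg_append {u₁ : Fin r₁ → m.PP} {u₂ : Fin r₂ → m.PP}
    (h₁ : ∀ x ∈ m.Fil 1, ∃ b : Fin r₁ → m.PP, x - ∑ j, u₁ j * b j ∈ m.Fil (1 + 1))
    (h₂ : ∀ x ∈ m.Fil 2, ∃ b : Fin r₂ → m.PP, x - ∑ j, u₂ j * b j ∈ m.Fil (2 + 1))
    (n : ℕ) (hn : n = 1 ∨ n = 2) (x : m.PP) (hx : x ∈ m.Fil n) :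
    ∃ b : Fin (r₁ + r₂) → m.PP, (∀ j, b j ∈ m.Fil (n - wtb r₁ r₂ j)) ∧
      x - ∑ j, Fin.append u₁ u₂ j * b j ∈ m.Fil (n + 1) := by
  rcases hn with rfl | rfl
  · obtain ⟨b, hb⟩ := h₁ x hx
    refine ⟨Fin.append b fun _ => 0, fun j => ?_, ?_⟩
    · refine Fin.addCases (fun j => ?_) (fun j => ?_) j
      · simp
      · rw [Fin.append_right]; exact Ideal.zero_mem _
    · rw [Fin.sum_univ_add]
      simpa using hb
  · obtain ⟨b, hb⟩ := h₂ x hx
    refine ⟨Fin.append (fun _ => 0) b, fun j => ?_, ?_⟩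
    · refine Fin.addCases (fun j => ?_) (fun j => ?_) j
      · rw [Fin.append_left]; exact Ideal.zero_mem _
      · simp
    · rw [Fin.sum_univ_add]
      simpa using hb

end model

section cond

variable {R : Type*} [CommRing R] {D : Type*} [CommRing D] [Algebra R D] {V : Type*} [AddCommGroup V]
  [Module D V] [Module R V] [IsScalarTower R D V] {ρ : V →ₗ[D] Ω[D⁄R]} {m : Model R D V ρ} {r₁ r₂ : ℕ}
  {u₁ : Fin r₁ → m.PP} {u₂ : Fin r₂ → m.PP} {R' : Type*} [CommRing R'] {x y : R →+* R'}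

theorem wcond_blk {a : IsoDat ρ x y} {N₁ : Matrix (Fin r₁) (Fin r₁) R'} {N₂ : Matrix (Fin r₂) (Fin r₂) R'}
    (h₁ : WCond m (fun _ => 1) u₁ a N₁) (h₂ : WCond m (fun _ => 2) u₂ a N₂) :
    WCond m (wtb r₁ r₂) (Fin.append u₁ u₂) a (blk N₁ N₂) := by
  intro φ hφ i
  refine Fin.addCases (fun i => ?_) (fun i => ?_) i
  · rw [Fin.sum_univ_add]
    simpa using h₁ φ hφ i
  · rw [Fin.sum_univ_add]
    simpa using h₂ φ hφ i

end cond

section arrow

variable {R : Type u} [CommRing R] {D : Type u} [CommRing D] [Algebra R D] {V : Type u} [AddCommGroup V]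
  [Module D V] [Module R V] [IsScalarTower R D V] {ρ : V →ₗ[D] Ω[D⁄R]} {m : Model R D V ρ} {r₁ r₂ : ℕ}
  {u₁ : Fin r₁ → m.PP} {u₂ : Fin r₂ → m.PP} {R' : Type u} [CommRing R'] {x y : R →+* R'}

/-- **the arrow of `wGpd`** from the two conditions -/
def whom (a : IsoDat ρ x y) (U₁ : (Matrix (Fin r₁) (Fin r₁) R')ˣ) (U₂ : (Matrix (Fin r₂) (Fin r₂) R')ˣ)
    (h₁ : WCond m (fun _ => 1) u₁ a U₁.1) (h₂ : WCond m (fun _ => 2) u₂ a U₂.1) :
    WHom m (wtb r₁ r₂) (Fin.append u₁ u₂) x y where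
  a := a
  M := blkU U₁ U₂
  wt := wpres_blk _ _
  wt' := wpres_blk _ _
  cond := wcond_blk h₁ h₂

end arrow

/-! ### Matrix comodules -/

section comod

open Groth.Agent.ResProp.EF.K884.MatPt Groth.Agent.ResProp.EF.Grp Groth.Agent.ResProp.EF.Arch
open Groth.Agent.ResProp.EF.K208 WithConv
open K784.BC K784.PM K741.RP EF56

variable {k : Type u} [CommRing k] {H : Gp k} {r₁ r₂ : ℕ} {M₁ : Matrix (Fin r₁) (Fin r₁) H.O}
  {M₂ : Matrix (Fin r₂) (Fin r₂) H.O}

theorem isMC_blk (h₁ : IsMC M₁) (h₂ : IsMC M₂) : IsMC (blk M₁ M₂) where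
  comul i j := by
    rw [Fin.sum_univ_add]
    refine Fin.addCases (fun i => ?_) (fun i => ?_) i <;> refine Fin.addCases (fun j => ?_) (fun j => ?_) j
    · simp [h₁.comul]
    · simp
    · simp
    · simp [h₂.comul]
  counit i j := by
    refine Fin.addCases (fun i => ?_) (fun i => ?_) i <;> refine Fin.addCases (fun j => ?_) (fun j => ?_) j
    · simp [h₁.counit]
    · rw [blk_lr, map_zero, if_neg]
      intro h
      have := congrArg Fin.val h
      simp at this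
      omega
    · rw [blk_rl, map_zero, if_neg]
      intro h
      have := congrArg Fin.val h
      simp at this
      omega
    · simp [h₂.counit]

variable {A : NFᵒᵖ ⥤ CommRingCat.{u}} [GRF k A] {B : Type u} [CommRing B] [Algebra k B]

theorem matPt_blk (h₁ : IsMC M₁) (h₂ : IsMC M₂) (n : ℕ) (h : (pts H).pt B) :
    matPt A B (isMC_blk h₁ h₂) n h = blkU (matPt A B h₁ n h) (matPt A B h₂ n h) := by
  apply Units.ext
  refine mat_ext (fun i j => ?_) (fun i j => ?_) (fun i j => ?_) fun i j => ?_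
  · change _ = blk _ _ _ _
    rw [blk_ll, matPt_val, matPt_val, blk_ll]
  · change _ = blk _ _ _ _
    rw [blk_lr, matPt_val, blk_lr, map_zero, zero_tmul]
  · change _ = blk _ _ _ _
    rw [blk_rl, matPt_val, blk_rl, map_zero, zero_tmul]
  · change _ = blk _ _ _ _
    rw [blk_rr, matPt_val, matPt_val, blk_rr]

end comod

end Groth.Agent.ResProp.EF.K588.Block
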