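import Groth.Agent.ResProp.EF.K58.Frame
import Groth.Agent.ResProp.EF.K895.N6s
import Mathlib.AlgebraicGeometry.Morphisms.FiniteType
import Mathlib.AlgebraicGeometry.Noetherian
import Mathlib.RingTheory.RingHom.FiniteType

/-!
# P10 of helper412's list (18055): the frame algebra `Fr i₀ φ` over `Γ(W')` is of finite type over the base

`W'` a quasi-compact open of a scheme locally of finite type over an affine scheme, `φ i ∈ Γ(W')` with `W'_(φ i)` affine:
`Fr i₀ φ` over `Γ(W')` is of finite type over the base (although `Γ(W')` need not be), because the `φ i` generate its unit ideal.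
Points of `Fr i₀ φ`: pairs `(w, g)`, `w` a point of `W'`, `g` invertible with column `i₀` equal to `φ(w)`.
-/

set_option autoImplicit false
set_option linter.unusedSectionVars false

open CategoryTheory CategoryTheory.Limits AlgebraicGeometry TopologicalSpace

namespace Groth.Agent.ResProp.EF.K588

universe u

/-! ### Ring form -/

/-- `f : B → C` of finite type, the `f (φ i)` generate the unit ideal of `C`, `B[1/φ i]` of finite type over `A`: then `C` is of
finite type over `A`. -/
theorem finiteType_of_uni {A B C : Type u} [CommRing A] [CommRing B] [CommRing C] (a : A →+* B) (f : B →+* C)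
    (hf : f.FiniteType) {ι : Type*} (φ : ι → B) (hu : Ideal.span (Set.range fun i => f (φ i)) = ⊤)
    (h : ∀ i, ((algebraMap B (Localization.Away (φ i))).comp a).FiniteType) : (f.comp a).FiniteType := by
  refine RingHom.finiteType_ofLocalizationSpanTarget (f.comp a) (Set.range fun i => f (φ i)) hu ?_
  rintro ⟨_, i, rfl⟩
  have h1 : (IsLocalization.Away.map (Localization.Away (φ i)) (Localization.Away (f (φ i))) f (φ i)).FiniteType :=
    RingHom.localization_away_map_finiteType B C _ _ f (φ i) hf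
  have h2 : (algebraMap C (Localization.Away (f (φ i)))).comp (f.comp a) =
      (IsLocalization.Away.map (Localization.Away (φ i)) (Localization.Away (f (φ i))) f (φ i)).comp
        ((algebraMap B (Localization.Away (φ i))).comp a) := by
    rw [← RingHom.comp_assoc, ← RingHom.comp_assoc, IsLocalization.Away.map, IsLocalization.map_comp]
  change ((algebraMap C (Localization.Away (f (φ i)))).comp (f.comp a)).FiniteType
  rw [h2]
  exact h1.comp (h i)

/-- **ring form of P10** -/
theorem fr_finiteType {A B : Type u} [CommRing A] [CommRing B] (a : A →+* B) {n : Type} [Fintype n] [DecidableEq n]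
    (i₀ : n) (φ : n → B) (h : ∀ i, ((algebraMap B (Localization.Away (φ i))).comp a).FiniteType) :
    ((algebraMap B (K58.Fr i₀ φ)).comp a).FiniteType := by
  refine finiteType_of_uni a (algebraMap B (K58.Fr i₀ φ)) ?_ φ (K58.Fr.uni i₀ φ) h
  rw [RingHom.finiteType_algebraMap]
  infer_instance

theorem fr_isNoetherianRing {A B : Type u} [CommRing A] [IsNoetherianRing A] [CommRing B] (a : A →+* B) {n : Type}
    [Fintype n] [DecidableEq n] (i₀ : n) (φ : n → B)
    (h : ∀ i, ((algebraMap B (Localization.Away (φ i))).comp a).FiniteType) : IsNoetherianRing (K58.Fr i₀ φ) := by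
  have h1 := fr_finiteType a i₀ φ h
  algebraize [(algebraMap B (K58.Fr i₀ φ)).comp a]
  exact Algebra.FiniteType.isNoetherianRing A (K58.Fr i₀ φ)

/-! ### Scheme form -/

/-- `W` a quasi-compact quasi-separated open of `X`, `X` locally of finite type over the affine scheme `S`, `X_φ` affine:
`Γ(X, W)[1/φ]` is of finite type over `Γ(S, ⊤)`. -/
theorem finiteType_away {X S : Scheme.{u}} (f : X ⟶ S) [IsAffine S] [LocallyOfFiniteType f] (W : X.Opens)
    (hW : IsCompact (W : Set X)) (hW' : IsQuasiSeparated (W : Set X)) (φ : Γ(X, W))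
    (hφ : IsAffineOpen (X.basicOpen φ)) :
    ((algebraMap Γ(X, W) (Localization.Away φ)).comp (f.appLE ⊤ W le_top).hom).FiniteType := by
  have hloc : IsLocalization.Away φ Γ(X, X.basicOpen φ) := isLocalization_basicOpen_of_qcqs hW hW' φ
  let e : Localization.Away φ ≃ₐ[Γ(X, W)] Γ(X, X.basicOpen φ) :=
    IsLocalization.algEquiv (Submonoid.powers φ) (Localization.Away φ) Γ(X, X.basicOpen φ)
  have h1 : (f.appLE ⊤ (X.basicOpen φ) le_top).hom.FiniteType :=
    f.finiteType_appLE (isAffineOpen_top S) hφ le_top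
  have h2 : (algebraMap Γ(X, W) (Localization.Away φ)).comp (f.appLE ⊤ W le_top).hom =
      (e.symm : Γ(X, X.basicOpen φ) →+* Localization.Away φ).comp (f.appLE ⊤ (X.basicOpen φ) le_top).hom := by
    have h3 : f.appLE ⊤ W le_top ≫ X.presheaf.map (homOfLE (X.basicOpen_le φ)).op =
        f.appLE ⊤ (X.basicOpen φ) le_top := Scheme.Hom.appLE_map _ _ _
    rw [← h3]
    ext r
    change algebraMap Γ(X, W) (Localization.Away φ) _ = e.symm (algebraMap Γ(X, W) Γ(X, X.basicOpen φ) _)
    rw [e.symm.commutes]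
    rfl
  rw [h2]
  exact (RingHom.FiniteType.of_surjective _ e.symm.surjective).comp h1

section

variable {X S : Scheme.{u}} (f : X ⟶ S) [IsAffine S] [LocallyOfFiniteType f] (W : X.Opens)
    (hW : IsCompact (W : Set X)) (hW' : IsQuasiSeparated (W : Set X)) {n : Type} [Fintype n] [DecidableEq n] (i₀ : n)
    (φ : n → Γ(X, W)) (hφ : ∀ i, IsAffineOpen (X.basicOpen (φ i)))

include hW hW' hφ

/-- **P10** -/
theorem fr_finiteType_scheme : ((algebraMap Γ(X, W) (K58.Fr i₀ φ)).comp (f.appLE ⊤ W le_top).hom).FiniteType :=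
  fr_finiteType _ i₀ φ fun i => finiteType_away f W hW hW' (φ i) (hφ i)

include f in
theorem fr_isNoetherianRing_scheme [IsLocallyNoetherian S] : IsNoetherianRing (K58.Fr i₀ φ) := by
  have : IsNoetherianRing Γ(S, ⊤) := IsLocallyNoetherian.component_noetherian ⟨⊤, isAffineOpen_top S⟩
  exact fr_isNoetherianRing (f.appLE ⊤ W le_top).hom i₀ φ fun i => finiteType_away f W hW hW' (φ i) (hφ i)

end

/-! ### Points -/

theorem toSpecΓ_comp_injective {T : Scheme.{u}} {R : CommRingCat.{u}} (y y' : R ⟶ Γ(T, ⊤))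
    (h : T.toSpecΓ ≫ Spec.map y = T.toSpecΓ ≫ Spec.map y') : y = y' := by
  have h1 : ∀ z : R ⟶ Γ(T, ⊤), (Scheme.ΓSpecIso R).inv ≫ (T.toSpecΓ ≫ Spec.map z).appTop = z := fun z => by
    rw [Scheme.Hom.comp_appTop, Scheme.toSpecΓ_appTop, Scheme.ΓSpecIso_naturality, Iso.inv_hom_id_assoc]
  rw [← h1 y, ← h1 y', h]

/-- A ring map out of `Γ(E)`, `E` quasi-affine, that makes the `φ i` (with `E_(φ i)` affine) generate the unit ideal is evaluation
at a unique morphism to `E`. -/
theorem existsUnique_hom {E T : Scheme.{u}} [E.IsQuasiAffine] {ι : Type*} (φ : ι → Γ(E, ⊤))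
    (hφ : ∀ i, IsAffineOpen (E.basicOpen (φ i))) (y : Γ(E, ⊤) ⟶ Γ(T, ⊤))
    (hy : Ideal.span (Set.range fun i => y.hom (φ i)) = ⊤) : ∃! w : T ⟶ E, w.appTop = y := by
  have hr : Set.range (T.toSpecΓ ≫ Spec.map y) ⊆ Set.range E.toSpecΓ := by
    rintro _ ⟨t, rfl⟩
    obtain ⟨i, hi⟩ : ∃ i, y.hom (φ i) ∉ (T.toSpecΓ t).asIdeal := by
      by_contra hc
      push Not at hc
      have : Ideal.span (Set.range fun i => y.hom (φ i)) ≤ (T.toSpecΓ t).asIdeal := by
        rw [Ideal.span_le]
        rintro _ ⟨i, rfl⟩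
        exact hc i
      rw [hy, top_le_iff] at this
      exact (T.toSpecΓ t).2.ne_top this
    exact (K895.N6s.isAffineOpen_basicOpen_iff E (φ i)).1 (hφ i) hi
  refine ⟨IsOpenImmersion.lift E.toSpecΓ (T.toSpecΓ ≫ Spec.map y) hr, ?_, fun w hw => ?_⟩
  · refine toSpecΓ_comp_injective _ _ ?_
    rw [← Scheme.toSpecΓ_naturality, IsOpenImmersion.lift_fac]
  · rw [← cancel_mono E.toSpecΓ, IsOpenImmersion.lift_fac, Scheme.toSpecΓ_naturality, hw]

/-- the same with values in a ring -/
theorem existsUnique_point {E : Scheme.{u}} [E.IsQuasiAffine] {ι : Type*} (φ : ι → Γ(E, ⊤))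
    (hφ : ∀ i, IsAffineOpen (E.basicOpen (φ i))) {T : Type u} [CommRing T] (y : Γ(E, ⊤) →+* T)
    (hy : Ideal.span (Set.range fun i => y (φ i)) = ⊤) :
    ∃! w : Spec (.of T) ⟶ E, w.appTop ≫ (Scheme.ΓSpecIso (.of T)).hom = CommRingCat.ofHom y := by
  have h := existsUnique_hom (T := Spec (.of T)) φ hφ (CommRingCat.ofHom y ≫ (Scheme.ΓSpecIso (.of T)).inv) (by
    have : (Set.range fun i => (CommRingCat.ofHom y ≫ (Scheme.ΓSpecIso (.of T)).inv).hom (φ i)) =
        (Scheme.ΓSpecIso (.of T)).inv.hom '' (Set.range fun i => y (φ i)) := by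
      rw [← Set.range_comp]
      rfl
    rw [this, ← Ideal.map_span, hy, Ideal.map_top])
  refine (existsUnique_congr fun w => ?_).2 h
  rw [Iso.eq_comp_inv]

end Groth.Agent.ResProp.EF.K588
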