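import Groth.Agent.ResProp.EF.K412.Mid
import Groth.Agent.ResProp.EF.K588.FinType

/-!
# Node M6 of helper412's list: the frame algebra `D = Fr i₀ φ` over `D0 = Γ(W')` is of finite type over `A`

field `ft` of `K412.RCover`; also `D` noetherian.
-/

set_option autoImplicit false

namespace Groth.Agent.ResProp.EF.K588

open Groth.Agent.Grpsch.AffGrpd

universe u

variable {A B : Type u} [CommRing A] [CommRing B] {Lb : Type u} [CommRing Lb] [Algebra Lb A] {G : RGrpd A B}
  {D : K412.Gen Lb G} {κ : Type u} [Field κ] {x : A →+* κ} {F : K412.FrRing D x} (M : K412.MidData F)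
  {n : Type} [Fintype n] [DecidableEq n] (i₀ : n) (φ : n → M.B0) (hφ : ∀ i, φ i ∈ M.I)

include hφ

/-- **Node M6** -/
theorem m6 : ((algebraMap M.D0 (K58.Fr i₀ fun i => algebraMap M.B0 M.D0 (φ i))).comp
    ((algebraMap F.R M.D0).comp F.P.a)).FiniteType :=
  fr_finiteType _ i₀ _ fun i => M.ft (φ i) (hφ i)

/-- the same for an algebra structure with this structure map -/
theorem m6_algebra [Algebra A (K58.Fr i₀ fun i => algebraMap M.B0 M.D0 (φ i))]
    (h : algebraMap A (K58.Fr i₀ fun i => algebraMap M.B0 M.D0 (φ i)) =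
      (algebraMap M.D0 (K58.Fr i₀ fun i => algebraMap M.B0 M.D0 (φ i))).comp ((algebraMap F.R M.D0).comp F.P.a)) :
    Algebra.FiniteType A (K58.Fr i₀ fun i => algebraMap M.B0 M.D0 (φ i)) := by
  rw [← RingHom.finiteType_algebraMap, h]
  exact m6 M i₀ φ hφ

/-- the same with `Algebra A D0`, `Fr` having the induced structure -/
theorem m6_of_algebra [Algebra A M.D0] (h : algebraMap A M.D0 = (algebraMap F.R M.D0).comp F.P.a) :
    Algebra.FiniteType A (K58.Fr i₀ fun i => algebraMap M.B0 M.D0 (φ i)) := by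
  refine m6_algebra M i₀ φ hφ ?_
  rw [← h]
  exact IsScalarTower.algebraMap_eq A M.D0 _

theorem m6_isNoetherianRing [IsNoetherianRing A] :
    IsNoetherianRing (K58.Fr i₀ fun i => algebraMap M.B0 M.D0 (φ i)) :=
  fr_isNoetherianRing _ i₀ _ fun i => M.ft (φ i) (hφ i)

end Groth.Agent.ResProp.EF.K588
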