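import Mathlib.LinearAlgebra.Matrix.NonsingularInverse
import Mathlib.LinearAlgebra.Matrix.ToLin
import Mathlib.RingTheory.Ideal.Operations
import Mathlib.RingTheory.Ideal.Maps
import Mathlib.RingTheory.LocalRing.MaximalIdeal.Basic

/-!
# P1 of helper412's list (17956): right invertible matrices and the ideal of maximal minors

`M : Matrix m n T` has a right inverse iff its maximal minors `det (M.submatrix id I)`, `I : m → n`, generate the unit
ideal; pair form; form for points of a ring.
-/

set_option autoImplicit false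

namespace Groth.Agent.ResProp.EF.K588

universe u v w

variable {m n m' n' : Type*} [Fintype m] [DecidableEq m] [Fintype n] [DecidableEq n]
  [Fintype m'] [DecidableEq m'] [Fintype n'] [DecidableEq n']

section

variable {T : Type u} [CommRing T]

/-- the maximal minor with columns `I` -/
def minor (M : Matrix m n T) (I : m → n) : T := (M.submatrix id I).det

omit [Fintype n] [DecidableEq n] in
theorem minor_map {T' : Type v} [CommRing T'] (f : T →+* T') (M : Matrix m n T) (I : m → n) :
    minor (M.map f) I = f (minor M I) := by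
  unfold minor
  rw [RingHom.map_det]
  rfl

omit [DecidableEq n] in
/-- (Cauchy - Binet, coarse form) -/
theorem det_mul_eq (M : Matrix m n T) (S : Matrix n m T) :
    (M * S).det = ∑ I : m → n, (∏ i, S (I i) i) * minor M I := by
  classical
  have h : ∀ σ : Equiv.Perm m, (∏ i, (M * S) (σ i) i) = ∑ I : m → n, ∏ i, M (σ i) (I i) * S (I i) i := by
    intro σ
    simp only [Matrix.mul_apply]
    rw [Finset.prod_univ_sum]
    rfl
  rw [Matrix.det_apply']
  simp only [h, Finset.mul_sum]
  rw [Finset.sum_comm]
  refine Finset.sum_congr rfl fun I _ => ?_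
  unfold minor
  rw [Matrix.det_apply', Finset.mul_sum]
  refine Finset.sum_congr rfl fun σ _ => ?_
  rw [Finset.prod_mul_distrib]
  simp only [Matrix.submatrix_apply, id]
  ring

omit [Fintype m] [DecidableEq m] in
/-- `M` times the column selection matrix -/
theorem mul_sel (M : Matrix m n T) (I : m → n) :
    M * (Matrix.of fun (j : n) (i : m) => if I i = j then (1 : T) else 0) = M.submatrix id I := by
  ext i k
  simp [Matrix.mul_apply, Matrix.of_apply]

theorem exists_rightInv_iff (M : Matrix m n T) :
    (∃ S : Matrix n m T, M * S = 1) ↔ Ideal.span (Set.range (minor M)) = ⊤ := by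
  constructor
  · rintro ⟨S, hS⟩
    rw [Ideal.eq_top_iff_one]
    have h1 : (1 : T) = ∑ I : m → n, (∏ i, S (I i) i) * minor M I := by
      rw [← det_mul_eq, hS, Matrix.det_one]
    rw [h1]
    exact Submodule.sum_mem _ fun I _ => Ideal.mul_mem_left _ _ (Ideal.subset_span ⟨I, rfl⟩)
  · intro h
    rw [Ideal.eq_top_iff_one] at h
    obtain ⟨c, hc⟩ := (Ideal.mem_span_range_iff_exists_fun).1 h
    refine ⟨∑ I : m → n, c I • ((Matrix.of fun (j : n) (i : m) => if I i = j then (1 : T) else 0) *
      (M.submatrix id I).adjugate), ?_⟩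
    rw [Matrix.mul_sum]
    have : ∀ I : m → n, M * (c I • ((Matrix.of fun (j : n) (i : m) => if I i = j then (1 : T) else 0) *
        (M.submatrix id I).adjugate)) = (c I * minor M I) • (1 : Matrix m m T) := by
      intro I
      rw [Matrix.mul_smul, ← Matrix.mul_assoc, mul_sel, Matrix.mul_adjugate, smul_smul]
      rfl
    simp only [this]
    rw [← Finset.sum_smul, hc, one_smul]

omit [DecidableEq n] in
theorem exists_rightInv_iff_surjective (M : Matrix m n T) :
    (∃ S : Matrix n m T, M * S = 1) ↔ Function.Surjective M.mulVec := by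
  rw [Matrix.mulVec_surjective_iff_exists_right_inverse]

/-- the products of a maximal minor of `M` and one of `M'` -/
def minor2 (M : Matrix m n T) (M' : Matrix m' n' T) (p : (m → n) × (m' → n')) : T :=
  minor M p.1 * minor M' p.2

omit [Fintype n] [DecidableEq n] [Fintype n'] [DecidableEq n'] in
theorem minor2_map {T' : Type v} [CommRing T'] (f : T →+* T') (M : Matrix m n T) (M' : Matrix m' n' T)
    (p : (m → n) × (m' → n')) : minor2 (M.map f) (M'.map f) p = f (minor2 M M' p) := by
  unfold minor2
  rw [minor_map, minor_map, map_mul]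

omit [Fintype n] [DecidableEq n] [Fintype n'] [DecidableEq n'] in
theorem span_minor2 (M : Matrix m n T) (M' : Matrix m' n' T) :
    Ideal.span (Set.range (minor2 M M')) = Ideal.span (Set.range (minor M)) * Ideal.span (Set.range (minor M')) := by
  rw [Ideal.span_mul_span']
  congr 1
  ext z
  simp only [Set.mem_range, Set.mem_mul, Prod.exists]
  constructor
  · rintro ⟨I, J, rfl⟩
    exact ⟨_, ⟨I, rfl⟩, _, ⟨J, rfl⟩, rfl⟩
  · rintro ⟨_, ⟨I, rfl⟩, _, ⟨J, rfl⟩, rfl⟩
    exact ⟨I, J, rfl⟩

theorem exists_rightInv2_iff (M : Matrix m n T) (M' : Matrix m' n' T) :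
    ((∃ S : Matrix n m T, M * S = 1) ∧ (∃ S : Matrix n' m' T, M' * S = 1)) ↔
      Ideal.span (Set.range (minor2 M M')) = ⊤ := by
  rw [exists_rightInv_iff, exists_rightInv_iff, span_minor2]
  constructor
  · rintro ⟨h1, h2⟩
    rw [h1, h2, Ideal.top_mul]
  · intro h
    exact ⟨top_le_iff.1 (h.symm.le.trans Ideal.mul_le_left), top_le_iff.1 (h.symm.le.trans Ideal.mul_le_right)⟩

end

/-- Form for points: `ψ : R → T` carries `M`, `M'` to right invertible matrices iff the `ψ (s_IJ)` generate `T`. -/
theorem point_iff {R : Type u} {T : Type v} [CommRing R] [CommRing T] (ψ : R →+* T) (M : Matrix m n R)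
    (M' : Matrix m' n' R) :
    ((∃ S : Matrix n m T, M.map ψ * S = 1) ∧ (∃ S : Matrix n' m' T, M'.map ψ * S = 1)) ↔
      Ideal.span (Set.range fun p => ψ (minor2 M M' p)) = ⊤ := by
  rw [exists_rightInv2_iff]
  have : (minor2 (M.map ψ) (M'.map ψ)) = fun p => ψ (minor2 M M' p) := by
    funext p
    exact minor2_map ψ M M' p
  rw [this]

/-- the same with the extended ideal -/
theorem point_iff_map {R : Type u} {T : Type v} [CommRing R] [CommRing T] (ψ : R →+* T) (M : Matrix m n R)
    (M' : Matrix m' n' R) :
    ((∃ S : Matrix n m T, M.map ψ * S = 1) ∧ (∃ S : Matrix n' m' T, M'.map ψ * S = 1)) ↔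
      (Ideal.span (Set.range (minor2 M M'))).map ψ = ⊤ := by
  rw [point_iff, Ideal.map_span, ← Set.range_comp]
  rfl

/-- over a local ring one minor of each is a unit -/
theorem exists_isUnit_minor2 {T : Type u} [CommRing T] [IsLocalRing T] (M : Matrix m n T) (M' : Matrix m' n' T)
    (h : (∃ S : Matrix n m T, M * S = 1) ∧ (∃ S : Matrix n' m' T, M' * S = 1)) : ∃ p, IsUnit (minor2 M M' p) := by
  rw [exists_rightInv2_iff] at h
  by_contra hc
  push Not at hc
  have : Ideal.span (Set.range (minor2 M M')) ≤ IsLocalRing.maximalIdeal T := by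
    rw [Ideal.span_le]
    rintro _ ⟨p, rfl⟩
    exact (IsLocalRing.mem_maximalIdeal _).2 (hc p)
  rw [h, top_le_iff] at this
  exact (Ideal.IsPrime.ne_top inferInstance) this

end Groth.Agent.ResProp.EF.K588
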