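import Groth.Agent.ResProp.EF.K588.Block
import Groth.Agent.ResProp.EF.K884.ProdW
import Groth.Agent.ResProp.EF.K280.GenN
import Groth.Agent.ResProp.EF.K280.VData

/-!
# From the generators of `gr 1` and `gr 2` (`GenN`) to `ProdIn`, and `StmtProd` from `GenN`
-/

set_option autoImplicit false
set_option linter.unusedSectionVars false
set_option linter.dupNamespace false
set_option linter.style.haveILetI false

universe u

open CategoryTheory Opposite TensorProduct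

noncomputable section

namespace Groth.Agent.ResProp.EF.K588.Block

open Groth.Agent.ResProp.EF.K980 K784.BC K784.PM K741.RP EF56 K477
open Groth.Agent.ResProp.EF.Arch Groth.Agent.ResProp.EF.Grp
open Groth.Agent.ResProp.EF.K208 WithConv
open Groth.Agent.ResProp.EF.K863 Groth.Agent.ResProp.EF.K964 Groth.Agent.ResProp.EF.K567
open Groth.Agent.ResProp.EF.K86 (wit hLv omPM omk omC)
open Groth.Agent.ResProp.EF.K280 (SymIn ProdIn GenN)
open Groth.Agent.ResProp.EF.K884.LevPM Groth.Agent.ResProp.EF.K884.EtaD Groth.Agent.ResProp.EF.K884.MatPt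
  Groth.Agent.ResProp.EF.K884.LevW Groth.Agent.ResProp.EF.K884.ProdW

variable {k : Type u} [CommRing k] {A : NFᵒᵖ ⥤ CommRingCat.{u}} [GRF k A]
  {x : PrimeSpectrum (A.obj (op ⟨0⟩))} (c : CoverDatum k A x)
  {ι : Type} [Fintype ι] [DecidableEq ι] {C : Matrix ι ι c.H.O} (hC : IsMC C)
  {ω : ι → Ω[(c.Y.D.obj (op ⟨0⟩))⁄(A.obj (op ⟨0⟩))]}
  (hinv : ∀ l, (omPM c.Y.j).map (pr ⟨0⟩) (show (omPM c.Y.j).obj ⟨0⟩ from ω l) =
    (omPM c.Y.j).map (lst ⟨0⟩) (show (omPM c.Y.j).obj ⟨0⟩ from ω l))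
  (hco : letI := omk c ⟨0⟩; ∀ l, (omC c ⟨0⟩).coact (show (omPM c.Y.j).obj ⟨0⟩ from ω l) =
    ∑ m, (show (omPM c.Y.j).obj ⟨0⟩ from ω m) ⊗ₜ[k] C m l)
  {m : Model (A.obj (op ⟨0⟩)) (c.Y.D.obj (op ⟨0⟩)) (ι → c.Y.D.obj (op ⟨0⟩)) (rhoOf ω)}

/-- the generators of the graded piece of degree `n` with the action of the universal arrow -/
abbrev GenU (m : Model (A.obj (op ⟨0⟩)) (c.Y.D.obj (op ⟨0⟩)) (ι → c.Y.D.obj (op ⟨0⟩)) (rhoOf ω)) (n : ℕ) :=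
  GenN (H := c.H) m (dIso c hC hinv hco c.H.O 1 0 1 (upt c.H)) (inb k A c.H.O 1) n

variable {c hC hinv hco}

/-- the congruence in the form of `WCond` -/
theorem GenU.wcond {n : ℕ} (g : GenU c hC hinv hco m n) :
    WCond m (fun _ => n) g.u (dIso c hC hinv hco c.H.O 1 0 1 (upt c.H)) (matPt A c.H.O g.hM 1 (upt c.H)).1 :=
  fun φ hφ i => g.cond φ hφ i

/-- the generation in terms of elements -/
theorem GenU.exists_of_span {n : ℕ} (g : GenU c hC hinv hco m n) (x : m.PP) (hx : x ∈ m.Fil n) :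
    ∃ b : Fin g.r → m.PP, x - ∑ j, g.u j * b j ∈ m.Fil (n + 1) :=
  Block.exists_of_span (fun i => ⟨g.u i, g.hu i⟩) g.span x hx

theorem hcond_blk (g₁ : GenU c hC hinv hco m 1) (g₂ : GenU c hC hinv hco m 2) :
    WCond m (wtb g₁.r g₂.r) (Fin.append g₁.u g₂.u) (dIso c hC hinv hco c.H.O 1 0 1 (upt c.H))
      (matPt A c.H.O (isMC_blk g₁.hM g₂.hM) 1 (upt c.H)).1 := by
  have h := wcond_blk (m := m) g₁.wcond g₂.wcond
  have e : (matPt A c.H.O (isMC_blk g₁.hM g₂.hM) 1 (upt c.H)).1 =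
      blk (matPt A c.H.O g₁.hM 1 (upt c.H)).1 (matPt A c.H.O g₂.hM 1 (upt c.H)).1 :=
    congrArg Units.val (matPt_blk g₁.hM g₂.hM 1 (upt c.H))
  rw [e]
  exact h

/-- **`ProdIn` from the generators of `gr 1` and `gr 2`** -/
def prodIn (g₁ : GenU c hC hinv hco m 1) (g₂ : GenU c hC hinv hco m 2) : ProdIn c :=
  prodW c hC hinv hco (mem_append g₁.hu g₂.hu) (isMC_blk g₁.hM g₂.hM) (wpres_blk g₁.M g₂.M)
    (hcond_blk g₁ g₂) one_le_wtb wtb_le_two (hg_append g₁.exists_of_span g₂.exists_of_span)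

/-- **StmtProd** from the generators of `gr 1` and `gr 2` -/
theorem stmtProd_of_genU (H : ∀ (p : ℕ) (k : Type u) [CommRing k] [IsLb p k] (A : NFᵒᵖ ⥤ CommRingCat.{u}) [GRF k A]
    (x : PrimeSpectrum (A.obj (op ⟨0⟩))) (c : CoverDatum k A x)
    (ι : Type) [Fintype ι] [DecidableEq ι] (C : Matrix ι ι c.H.O) (hC : IsMC C)
    (ω : ι → Ω[(c.Y.D.obj (op ⟨0⟩))⁄(A.obj (op ⟨0⟩))])
    (hinv : ∀ l, (omPM c.Y.j).map (pr ⟨0⟩) (show (omPM c.Y.j).obj ⟨0⟩ from ω l) =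
      (omPM c.Y.j).map (lst ⟨0⟩) (show (omPM c.Y.j).obj ⟨0⟩ from ω l))
    (hco : letI := omk c ⟨0⟩; ∀ l, (omC c ⟨0⟩).coact (show (omPM c.Y.j).obj ⟨0⟩ from ω l) =
      ∑ m, (show (omPM c.Y.j).obj ⟨0⟩ from ω m) ⊗ₜ[k] C m l)
    (m : Model (A.obj (op ⟨0⟩)) (c.Y.D.obj (op ⟨0⟩)) (ι → c.Y.D.obj (op ⟨0⟩)) (rhoOf ω)) (n : ℕ),
    n = 1 ∨ n = 2 → Nonempty (GenU c hC hinv hco m n)) : StmtProd.{u} := by
  refine K280.stmtProd_of fun p k _ _ A _ x c => ?_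
  obtain ⟨ι, _, _, w, C, hC, hinv, hco, ⟨m⟩⟩ := K280.exists_vdata c p
  obtain ⟨g₁⟩ := H p k A x c ι C hC w hinv hco m 1 (Or.inl rfl)
  obtain ⟨g₂⟩ := H p k A x c ι C hC w hinv hco m 2 (Or.inr rfl)
  exact ⟨prodIn g₁ g₂⟩

end Groth.Agent.ResProp.EF.K588.Block
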