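import Groth.Agent.ResProp.EF.K588.FinType

/-!
# Points of `W = ⋃ D(s j) ⊆ Spec R` and of the frame algebra over `Γ(W)`

* `mem_radical_span`: `X_φ` affine, `W = ⋃ X_(s j)` ⟹ `φ ∈ rad (s j) ⊆ Γ(W)`;
* `fr_span`: hence the `s j` generate the unit ideal of `Fr i₀ φ` (`φ i ∈ Γ(W)`, `X_(φ i)` affine);
* `existsUnique_ext`: a ring map `v : R → T` with `(v (s j)) = T` extends uniquely to `Γ(Spec R, W)`;
* `fr_point`: points of `Fr i₀ φ` = pairs `(v, g)`.
-/

set_option autoImplicit false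
set_option linter.unusedSectionVars false

open CategoryTheory CategoryTheory.Limits AlgebraicGeometry TopologicalSpace

namespace Groth.Agent.ResProp.EF.K588

universe u

/-- `W = ⋃ X_(s j)`, `X_φ` affine: `φ` is in the radical of the ideal generated by the `s j`. -/
theorem mem_radical_span {X : Scheme.{u}} (W : X.Opens) (hW : IsCompact (W : Set X))
    (hW' : IsQuasiSeparated (W : Set X)) {J : Type*} (s : J → Γ(X, W)) (hs : W ≤ ⨆ j, X.basicOpen (s j))
    (φ : Γ(X, W)) (hφ : IsAffineOpen (X.basicOpen φ)) : φ ∈ (Ideal.span (Set.range s)).radical := by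
  have hloc : IsLocalization.Away φ Γ(X, X.basicOpen φ) := isLocalization_basicOpen_of_qcqs hW hW' φ
  let ρ : Γ(X, W) →+* Γ(X, X.basicOpen φ) := (X.presheaf.map (homOfLE (X.basicOpen_le φ)).op).hom
  have h1 : Ideal.span (ρ '' Set.range s) = ⊤ := by
    refine (hφ.iSup_basicOpen_eq_self_iff).1 (le_antisymm (iSup_le fun f => X.basicOpen_le _) ?_)
    intro x hx
    obtain ⟨j, hj⟩ := Opens.mem_iSup.1 (hs (X.basicOpen_le φ hx))
    refine Opens.mem_iSup.2 ⟨⟨ρ (s j), ⟨_, ⟨j, rfl⟩, rfl⟩⟩, ?_⟩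
    change x ∈ X.basicOpen (X.presheaf.map (homOfLE (X.basicOpen_le φ)).op (s j))
    rw [Scheme.basicOpen_res]
    exact ⟨hx, hj⟩
  have h2 : (Ideal.span (Set.range s)).map (algebraMap Γ(X, W) Γ(X, X.basicOpen φ)) = ⊤ := by
    rw [Ideal.map_span]
    exact h1
  have h3 : algebraMap Γ(X, W) Γ(X, X.basicOpen φ) 1 ∈
      (Ideal.span (Set.range s)).map (algebraMap Γ(X, W) Γ(X, X.basicOpen φ)) := by
    rw [h2]; trivial
  rw [IsLocalization.algebraMap_mem_map_algebraMap_iff (Submonoid.powers φ)] at h3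
  obtain ⟨_, ⟨k, rfl⟩, hk⟩ := h3
  exact ⟨k, by simpa using hk⟩

/-- the `s j` generate the unit ideal of the frame algebra -/
theorem fr_span {B : Type u} [CommRing B] {n : Type} [Fintype n] [DecidableEq n] (i₀ : n) (φ : n → B) {J : Type*}
    (s : J → B) (h : ∀ i, φ i ∈ (Ideal.span (Set.range s)).radical) :
    Ideal.span (Set.range fun j => algebraMap B (K58.Fr i₀ φ) (s j)) = ⊤ := by
  rw [← Ideal.radical_eq_top, eq_top_iff, ← K58.Fr.uni i₀ φ, Ideal.span_le]
  rintro _ ⟨i, rfl⟩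
  obtain ⟨k, hk⟩ := h i
  refine ⟨k, ?_⟩
  rw [← map_pow]
  have : (Set.range fun j => algebraMap B (K58.Fr i₀ φ) (s j)) = algebraMap B (K58.Fr i₀ φ) '' Set.range s := by
    rw [← Set.range_comp]; rfl
  rw [this, ← Ideal.map_span]
  exact Ideal.mem_map_of_mem _ hk

section Spec

variable {R : Type u} [CommRing R]

/-- restriction `R → Γ(Spec R, W)` -/
noncomputable def toSec (W : (Spec (.of R)).Opens) : R →+* Γ(Spec (.of R), W) :=
  ((Scheme.ΓSpecIso (.of R)).inv ≫ (Spec (.of R)).presheaf.map (homOfLE le_top).op).hom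

theorem basicOpen_toSec (W : (Spec (.of R)).Opens) (r : R) :
    (Spec (.of R)).basicOpen (toSec W r) = W ⊓ PrimeSpectrum.basicOpen r := by
  change (Spec (.of R)).basicOpen ((Spec (.of R)).presheaf.map (homOfLE le_top).op ((Scheme.ΓSpecIso (.of R)).inv r)) = _
  rw [Scheme.basicOpen_res, basicOpen_eq_of_affine]

theorem appLE_toSec {T : Type u} [CommRing T] (W : (Spec (.of R)).Opens) (v : R →+* T)
    (h : (⊤ : (Spec (.of T)).Opens) ≤ Spec.map (CommRingCat.ofHom v) ⁻¹ᵁ W) :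
    ((Spec.map (CommRingCat.ofHom v)).appLE W ⊤ h ≫ (Scheme.ΓSpecIso (.of T)).hom).hom.comp (toSec W) = v := by
  have : ((Scheme.ΓSpecIso (.of R)).inv ≫ (Spec (.of R)).presheaf.map (homOfLE le_top).op) ≫
      ((Spec.map (CommRingCat.ofHom v)).appLE W ⊤ h ≫ (Scheme.ΓSpecIso (.of T)).hom) = CommRingCat.ofHom v := by
    rw [Category.assoc, Scheme.Hom.map_appLE_assoc]
    have h2 : (Spec.map (CommRingCat.ofHom v)).appLE ⊤ ⊤ le_top = (Spec.map (CommRingCat.ofHom v)).appTop :=
      Scheme.Hom.appLE_eq_app _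
    refine (congrArg (fun z => (Scheme.ΓSpecIso (.of R)).inv ≫ z ≫ (Scheme.ΓSpecIso (.of T)).hom) h2).trans ?_
    rw [Scheme.ΓSpecIso_naturality, Iso.inv_hom_id_assoc]
  exact congrArg CommRingCat.Hom.hom this

variable {J : Type*} (s : J → R)

/-- every section over `⋃ D(s j)` becomes a fraction over `D(s j)` -/
theorem exists_pow_mul (W : (Spec (.of R)).Opens) (hW : IsCompact (W : Set (Spec (.of R)))) (b : Γ(Spec (.of R), W))
    (r : R) (hr : PrimeSpectrum.basicOpen r ≤ W) : ∃ (k : ℕ) (a : R), toSec W r ^ k * b = toSec W a := by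
  let X := Spec (.of R)
  let ι : R →+* Γ(X, ⊤) := (Scheme.ΓSpecIso (.of R)).inv.hom
  have hι : Function.Surjective ι := fun z => ⟨(Scheme.ΓSpecIso (.of R)).hom z, by
    change (Scheme.ΓSpecIso (.of R)).inv ((Scheme.ΓSpecIso (.of R)).hom z) = z
    simp⟩
  have hV : X.basicOpen (ι r) ≤ W := by
    change (Spec (.of R)).basicOpen ((Scheme.ΓSpecIso (.of R)).inv r) ≤ W
    rw [basicOpen_eq_of_affine]
    exact hr
  obtain ⟨k, a', ha'⟩ := exists_eq_pow_mul_of_isAffineOpen X ⊤ (isAffineOpen_top X) (ι r)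
    (X.presheaf.map (homOfLE hV).op b)
  obtain ⟨a, rfl⟩ := hι a'
  have hz : (toSec W r ^ k * b - toSec W a) |_ X.basicOpen (toSec W r) = 0 := by
    have hle : X.basicOpen (toSec W r) ≤ X.basicOpen (ι r) := by
      change (Spec (.of R)).basicOpen (toSec W r) ≤ (Spec (.of R)).basicOpen ((Scheme.ΓSpecIso (.of R)).inv r)
      rw [basicOpen_toSec, basicOpen_eq_of_affine]
      exact inf_le_right
    have h1 : ∀ x : R, X.presheaf.map (homOfLE hV).op (toSec W x) = (ι x) |_ X.basicOpen (ι r) := fun x => by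
      change ((Spec (.of R)).presheaf.map (homOfLE le_top).op ≫ X.presheaf.map (homOfLE hV).op) (ι x) = _
      rw [← Functor.map_comp]
      rfl
    have h2 : X.presheaf.map (homOfLE hV).op (toSec W r ^ k * b - toSec W a) = 0 := by
      rw [map_sub, map_mul, map_pow, h1, h1, ha']
      exact sub_self _
    have h3 : ∀ z : Γ(X, W), z |_ X.basicOpen (toSec W r) =
        X.presheaf.map (homOfLE hle).op (X.presheaf.map (homOfLE hV).op z) := fun z => by
      change _ = (X.presheaf.map (homOfLE hV).op ≫ X.presheaf.map (homOfLE hle).op) z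
      rw [← Functor.map_comp]
      rfl
    rw [h3, h2, map_zero]
  obtain ⟨m, hm⟩ := exists_pow_mul_eq_zero_of_res_basicOpen_eq_zero_of_isCompact X hW _ _ hz
  refine ⟨m + k, r ^ m * a, ?_⟩
  rw [mul_sub, sub_eq_zero] at hm
  rw [pow_add, mul_assoc, hm, map_mul, map_pow]

theorem le_preimage_iff {T : Type u} [CommRing T] (v : R →+* T) :
    (⊤ : (Spec (.of T)).Opens) ≤ Spec.map (CommRingCat.ofHom v) ⁻¹ᵁ (⨆ j, PrimeSpectrum.basicOpen (s j)) ↔
      Ideal.span (Set.range fun j => v (s j)) = ⊤ := by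
  have h1 : ∀ t : PrimeSpectrum T, t ∈ (Spec.map (CommRingCat.ofHom v) ⁻¹ᵁ (⨆ j, PrimeSpectrum.basicOpen (s j)) :
      (Spec (.of T)).Opens) ↔ ∃ j, v (s j) ∉ t.asIdeal := fun t => by
    change (PrimeSpectrum.comap v t) ∈ (⨆ j, PrimeSpectrum.basicOpen (s j)) ↔ _
    rw [Opens.mem_iSup]
    rfl
  constructor
  · intro h
    by_contra hc
    obtain ⟨m, hm, hle⟩ := Ideal.exists_le_maximal _ hc
    obtain ⟨j, hj⟩ := (h1 ⟨m, hm.isPrime⟩).1 (h trivial)
    exact hj (hle (Ideal.subset_span ⟨j, rfl⟩))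
  · intro h t _
    refine (h1 t).2 ?_
    by_contra hc
    push Not at hc
    have : Ideal.span (Set.range fun j => v (s j)) ≤ PrimeSpectrum.asIdeal t := by
      rw [Ideal.span_le]
      rintro _ ⟨j, rfl⟩
      exact hc j
    rw [h, top_le_iff] at this
    exact t.2.ne_top this

theorem isCompact_iSup_basicOpen [Finite J] :
    IsCompact ((⨆ j, PrimeSpectrum.basicOpen (s j) : Opens (PrimeSpectrum R)) : Set (PrimeSpectrum R)) := by
  rw [Opens.coe_iSup]
  exact isCompact_iUnion fun j => PrimeSpectrum.isCompact_basicOpen (s j)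

variable {s} in
/-- **extension of points**: a ring map `v : R → T` with `(v (s j)) = T` extends uniquely to the sections over `⋃ D(s j)` -/
theorem existsUnique_ext [Finite J] {T : Type u} [CommRing T] (v : R →+* T)
    (hv : Ideal.span (Set.range fun j => v (s j)) = ⊤) :
    ∃! y : Γ(Spec (.of R), (⨆ j, PrimeSpectrum.basicOpen (s j) : (Spec (.of R)).Opens)) →+* T, y.comp (toSec _) = v := by
  have hW : IsCompact ((⨆ j, PrimeSpectrum.basicOpen (s j) : (Spec (.of R)).Opens) : Set (Spec (.of R))) :=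
    isCompact_iSup_basicOpen s
  refine ⟨_, appLE_toSec _ v ((le_preimage_iff s v).2 hv), fun y hy => ?_⟩
  set y' := ((Spec.map (CommRingCat.ofHom v)).appLE (⨆ j, PrimeSpectrum.basicOpen (s j)) ⊤
    ((le_preimage_iff s v).2 hv) ≫ (Scheme.ΓSpecIso (.of T)).hom).hom
  have hy' : y'.comp (toSec _) = v := appLE_toSec _ v ((le_preimage_iff s v).2 hv)
  ext b
  have key : ∀ j, ∃ k : ℕ, v (s j) ^ k * (y b - y' b) = 0 := fun j => by
    obtain ⟨k, a, hk⟩ := exists_pow_mul (⨆ j, PrimeSpectrum.basicOpen (s j)) hW b (s j) (le_iSup (fun j =>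
      (PrimeSpectrum.basicOpen (s j) : Opens (PrimeSpectrum R))) j)
    refine ⟨k, ?_⟩
    have e1 : y (toSec _ (s j)) ^ k * y b = y (toSec _ a) := by rw [← map_pow, ← map_mul, hk]
    have e2 : y' (toSec _ (s j)) ^ k * y' b = y' (toSec _ a) := by rw [← map_pow, ← map_mul, hk]
    have f1 : ∀ r, y (toSec _ r) = v r := fun r => RingHom.congr_fun hy r
    have f2 : ∀ r, y' (toSec _ r) = v r := fun r => RingHom.congr_fun hy' r
    rw [f1, f1] at e1
    rw [f2, f2] at e2
    rw [mul_sub, e1, e2, sub_self]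
  choose k hk using key
  have hrad : (Ideal.span {y b - y' b}).annihilator = ⊤ := by
    rw [← Ideal.radical_eq_top, eq_top_iff, ← hv, Ideal.span_le]
    rintro _ ⟨j, rfl⟩
    refine ⟨k j, ?_⟩
    rw [Submodule.mem_annihilator_span_singleton]
    exact hk j
  have h1 : (1 : T) ∈ (Ideal.span {y b - y' b}).annihilator := by rw [hrad]; trivial
  rw [Submodule.mem_annihilator_span_singleton, one_smul] at h1
  exact sub_eq_zero.1 h1

variable {s} in
/-- **points of the frame algebra**: for `χ : Fr i₀ φ → T` the point `v = χ|_R` has `(v (s j)) = T` (and `χ|_Γ(W)` is its unique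
extension by `existsUnique_ext`). -/
theorem fr_point_span [Finite J] {n : Type} [Fintype n] [DecidableEq n] (i₀ : n)
    (φ : n → Γ(Spec (.of R), (⨆ j, PrimeSpectrum.basicOpen (s j) : (Spec (.of R)).Opens)))
    (hφ : ∀ i, IsAffineOpen ((Spec (.of R)).basicOpen (φ i))) :
    Ideal.span (Set.range fun j => algebraMap _ (K58.Fr i₀ φ) (toSec (⨆ j, PrimeSpectrum.basicOpen (s j)) (s j))) = ⊤ := by
  have hW : IsCompact ((⨆ j, PrimeSpectrum.basicOpen (s j) : (Spec (.of R)).Opens) : Set (Spec (.of R))) :=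
    isCompact_iSup_basicOpen s
  refine fr_span i₀ φ _ fun i => mem_radical_span _ hW ?_ _ ?_ (φ i) (hφ i)
  · exact IsQuasiSeparated.of_quasiSeparatedSpace _
  · intro x hx
    obtain ⟨j, hj⟩ := Opens.mem_iSup.1 hx
    refine Opens.mem_iSup.2 ⟨j, ?_⟩
    rw [basicOpen_toSec]
    exact ⟨hx, hj⟩

variable {s} in
/-- **points of the frame algebra over `Γ(⋃ D(s j))`**: a point `v` of `⋃ D(s j)` and an invertible matrix with column `i₀` equal
to `φ(v)` give exactly one point of `Fr i₀ φ`. -/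
theorem existsUnique_fr_point [Finite J] {n : Type} [Fintype n] [DecidableEq n] (i₀ : n)
    (φ : n → Γ(Spec (.of R), (⨆ j, PrimeSpectrum.basicOpen (s j) : (Spec (.of R)).Opens)))
    {T : Type u} [CommRing T] (v : R →+* T) (hv : Ideal.span (Set.range fun j => v (s j)) = ⊤) (g : Matrix n n T)
    (hg : IsUnit g.det)
    (hcol : ∀ y : Γ(Spec (.of R), (⨆ j, PrimeSpectrum.basicOpen (s j) : (Spec (.of R)).Opens)) →+* T,
      y.comp (toSec _) = v → ∀ i, g i i₀ = y (φ i)) :
    ∃! χ : K58.Fr i₀ φ →+* T, χ.comp ((algebraMap _ (K58.Fr i₀ φ)).comp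
      (toSec (⨆ j, PrimeSpectrum.basicOpen (s j)))) = v ∧ (K58.mat i₀ φ).map χ = g := by
  obtain ⟨y, hy, hun⟩ := existsUnique_ext (s := s) v hv
  refine ⟨K58.Fr.lift y g hg (hcol y hy), ⟨?_, K58.Fr.lift_mat y g hg (hcol y hy)⟩, ?_⟩
  · rw [← RingHom.comp_assoc, K58.Fr.lift_comp, hy]
  · rintro χ ⟨h1, h2⟩
    refine K58.Fr.hom_ext ?_ ?_
    · rw [K58.Fr.lift_comp]
      refine hun _ ?_
      change (χ.comp (algebraMap _ (K58.Fr i₀ φ))).comp (toSec _) = v
      rw [RingHom.comp_assoc]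
      exact h1
    · rw [h2, K58.Fr.lift_mat]

/-- `Γ(W)[1/φ]` is of finite type over `R` if `W_φ` is affine -/
theorem finiteType_away_spec (W : (Spec (.of R)).Opens) (hW : IsCompact (W : Set (Spec (.of R))))
    (φ : Γ(Spec (.of R), W)) (hφ : IsAffineOpen ((Spec (.of R)).basicOpen φ)) :
    ((algebraMap Γ(Spec (.of R), W) (Localization.Away φ)).comp (toSec W)).FiniteType := by
  have h1 := finiteType_away (𝟙 (Spec (.of R))) W hW (IsQuasiSeparated.of_quasiSeparatedSpace _) φ hφ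
  have h2 : (Scheme.ΓSpecIso (.of R)).inv.hom.FiniteType :=
    RingHom.FiniteType.of_surjective _ fun z => ⟨(Scheme.ΓSpecIso (.of R)).hom z, by
      change (Scheme.ΓSpecIso (.of R)).inv ((Scheme.ΓSpecIso (.of R)).hom z) = z
      simp⟩
  have h3 : (algebraMap Γ(Spec (.of R), W) (Localization.Away φ)).comp (toSec W) =
      ((algebraMap Γ(Spec (.of R), W) (Localization.Away φ)).comp
        ((𝟙 (Spec (.of R)) : Spec (.of R) ⟶ Spec (.of R)).appLE ⊤ W le_top).hom).comp
        (Scheme.ΓSpecIso (.of R)).inv.hom := by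
    rw [RingHom.comp_assoc]
    congr 1
  rw [h3]
  exact h1.comp h2

/-- **P10, final form**: `D = Fr i₀ φ` over `D0 = Γ(Spec R, W)` is of finite type over `A` if `R` is. -/
theorem fr_finiteType_spec {A : Type u} [CommRing A] (a : A →+* R) (ha : a.FiniteType) (W : (Spec (.of R)).Opens)
    (hW : IsCompact (W : Set (Spec (.of R)))) {n : Type} [Fintype n] [DecidableEq n] (i₀ : n)
    (φ : n → Γ(Spec (.of R), W)) (hφ : ∀ i, IsAffineOpen ((Spec (.of R)).basicOpen (φ i))) :
    ((algebraMap Γ(Spec (.of R), W) (K58.Fr i₀ φ)).comp ((toSec W).comp a)).FiniteType := by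
  rw [← RingHom.comp_assoc]
  exact (fr_finiteType (toSec W) i₀ φ fun i => finiteType_away_spec W hW (φ i) (hφ i)).comp ha

end Spec

end Groth.Agent.ResProp.EF.K588
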